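import Mathlib
import Groth.Agent.LengthDetLib.Global
import Groth.Agent.TameLib.OrdFrac

/-!
# Lengths of cokernels of lattices
-/

set_option autoImplicit false
universe u

open Module

noncomputable section

namespace K0DivLib

variable {A : Type u} [CommRing A] [IsDomain A] [IsNoetherianRing A] [Ring.KrullDimLE 1 A]
  {K : Type u} [Field K] [Algebra A K] [IsFractionRing A K]

/-- The length of the cokernel of a tuple. -/
def L {M : Type u} [AddCommGroup M] [Module A M] {r : ℕ} (m : Fin r → M) : ℕ∞ :=
  Module.length A (M ⧸ Submodule.span A (Set.range m))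

theorem ord_ne_top {a : A} (ha : a ≠ 0) : Ring.ord A a ≠ ⊤ := Ring.ord_ne_top (mem_nonZeroDivisors_of_ne_zero ha)

section Model

variable {M : Type u} [AddCommGroup M] [Module A M]
  {V : Type u} [AddCommGroup V] [Module A V] [Module K V] [IsScalarTower A K V] (sp : M →ₗ[A] V)

theorem indep_lift {r : ℕ} {m : Fin r → M} (h : LinearIndependent K (sp ∘ m)) :
    Function.Injective (Fintype.linearCombination A m) := by
  refine (injective_iff_map_eq_zero _).2 fun c hc => funext fun i => ?_
  have h1 : ∑ j, algebraMap A K (c j) • (sp ∘ m) j = 0 := by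
    simp only [Function.comp_apply, algebraMap_smul, ← map_smul, ← map_sum]
    rw [← Fintype.linearCombination_apply, hc, map_zero]
  exact IsFractionRing.injective A K (((Fintype.linearIndependent_iff.1 h) _ h1 i).trans (map_zero _).symm)

omit [IsNoetherianRing A] [Ring.KrullDimLE 1 A] in
theorem range_lc {r : ℕ} (m : Fin r → M) :
    LinearMap.range (Fintype.linearCombination A m) = Submodule.span A (Set.range m) :=
  Fintype.range_linearCombination (R := A) m

include sp in
/-- Changing a tuple by a matrix. -/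
theorem L_matrix {r : ℕ} {m : Fin r → M} (h : LinearIndependent K (sp ∘ m)) (G : Matrix (Fin r) (Fin r) A)
    (hG : G.det ≠ 0) :
    L (A := A) (fun j => ∑ i, G i j • m i) = L (A := A) m + Ring.ord A G.det := by
  let ψ := Fintype.linearCombination A m
  let S := Submodule.span A (Set.range fun j => ∑ i, G i j • m i)
  have hS : S = (LinearMap.range G.mulVecLin).map ψ := by
    show Submodule.span A (Set.range fun j => ∑ i, G i j • m i) = _
    rw [← LinearMap.range_comp, ← range_lc]
    refine congrArg LinearMap.range (LinearMap.pi_ext' fun j => LinearMap.ext_ring ?_)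
    simp [ψ, Fintype.linearCombination_apply, Pi.single_apply, Finset.sum_ite_eq']
  have hle : S ≤ Submodule.span A (Set.range m) := by
    rw [hS, ← range_lc]
    exact LinearMap.map_le_range
  rw [← LengthDetLib.cl_eq_ord' G (mem_nonZeroDivisors_of_ne_zero hG), add_comm]
  refine Module.length_eq_add_of_exact (Submodule.mapQ (LinearMap.range G.mulVecLin) S ψ (Submodule.map_le_iff_le_comap.1 hS.ge))
    (Submodule.factor hle) ?_ (Submodule.factor_surjective hle) ?_
  · refine (injective_iff_map_eq_zero _).2 fun c hc => ?_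
    obtain ⟨c, rfl⟩ := Submodule.Quotient.mk_surjective _ c
    rw [Submodule.mapQ_apply, Submodule.Quotient.mk_eq_zero, hS] at hc
    obtain ⟨d, hd, hdc⟩ := hc
    rw [Submodule.Quotient.mk_eq_zero]
    exact (indep_lift sp h hdc) ▸ hd
  · intro x
    obtain ⟨x, rfl⟩ := Submodule.Quotient.mk_surjective _ x
    rw [show Submodule.factor hle (Submodule.Quotient.mk x) = Submodule.Quotient.mk x from rfl, Submodule.Quotient.mk_eq_zero, ← range_lc]
    constructor
    · rintro ⟨c, rfl⟩
      exact ⟨Submodule.Quotient.mk c, rfl⟩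
    · rintro ⟨c, hc⟩
      obtain ⟨c, rfl⟩ := Submodule.Quotient.mk_surjective _ c
      rw [Submodule.mapQ_apply, Submodule.Quotient.eq, hS] at hc
      obtain ⟨d, -, hd⟩ := hc
      exact ⟨c - d, by rw [map_sub, hd]; abel⟩

include sp in
theorem L_smul {r : ℕ} {m : Fin r → M} (h : LinearIndependent K (sp ∘ m)) {s : A} (hs : s ≠ 0) :
    L (A := A) (fun j => s • m j) = L (A := A) m + r • Ring.ord A s := by
  have h1 := L_matrix sp h (s • (1 : Matrix (Fin r) (Fin r) A)) (by simp [Matrix.det_smul, hs])
  rw [Matrix.det_smul, Matrix.det_one, mul_one, Fintype.card_fin, Ring.ord_pow (mem_nonZeroDivisors_of_ne_zero hs)] at h1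
  rw [← h1]
  congr 1
  funext j
  simp [Matrix.one_apply, Finset.sum_ite_eq']

variable [IsLocalizedModule (nonZeroDivisors A) sp] [Module.Finite A M]

include sp in
theorem L_ne_top {r : ℕ} {m : Fin r → M} (h : Submodule.span K (Set.range (sp ∘ m)) = ⊤) : L (A := A) m ≠ ⊤ := by
  classical
  let S := Submodule.span A (Set.range m)
  have ht : ∀ x : M, ∃ s : A, s ≠ 0 ∧ s • x ∈ S := fun x => by
    obtain ⟨c, hc⟩ := (Submodule.mem_span_range_iff_exists_fun K).1 (h.ge (Submodule.mem_top (x := sp x)))
    obtain ⟨b, hb⟩ := IsLocalization.exist_integer_multiples (nonZeroDivisors A) (Finset.univ : Finset (Fin r)) c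
    choose c' hc' using fun i => hb i (Finset.mem_univ i)
    have h1 : sp ((b : A) • x) = sp (∑ i, c' i • m i) := by
      rw [map_smul, map_sum, ← hc, Finset.smul_sum]
      refine Finset.sum_congr rfl fun i _ => ?_
      rw [map_smul, ← algebraMap_smul K (c' i), hc', Function.comp_apply, smul_assoc]
    obtain ⟨s, hs⟩ := (IsLocalizedModule.eq_iff_exists (nonZeroDivisors A) sp).1 h1
    refine ⟨(s : A) * b, mul_ne_zero (nonZeroDivisors.ne_zero s.2) (nonZeroDivisors.ne_zero b.2), ?_⟩
    rw [mul_smul]
    show (s : A) • ((b : A) • x) ∈ S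
    rw [show (s : A) • ((b : A) • x) = (s : A) • ∑ i, c' i • m i from hs]
    exact Submodule.smul_mem _ _ (Submodule.sum_mem _ fun i _ => Submodule.smul_mem _ _ (Submodule.subset_span ⟨i, rfl⟩))
  obtain ⟨T, hT⟩ := (inferInstance : Module.Finite A M).fg_top
  choose s hs0 hsx using ht
  let d := ∏ x ∈ T, s x
  have hd : d ≠ 0 := Finset.prod_ne_zero_iff.2 fun x _ => hs0 x
  have hann : ∀ x : M ⧸ S, d • x = 0 := fun x => by
    obtain ⟨x, rfl⟩ := Submodule.Quotient.mk_surjective _ x
    rw [← Submodule.Quotient.mk_smul, Submodule.Quotient.mk_eq_zero]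
    have hle : Submodule.span A (T : Set M) ≤ S.comap (d • (LinearMap.id : M →ₗ[A] M)) := Submodule.span_le.2 fun y hy => by
      obtain ⟨e, he⟩ := Finset.dvd_prod_of_mem s (show y ∈ T from hy)
      show (∏ x ∈ T, s x) • y ∈ S
      rw [he, mul_comm, mul_smul]
      exact Submodule.smul_mem _ _ (hsx y)
    rw [hT] at hle
    exact hle (Submodule.mem_top (x := x))
  haveI : IsFiniteLength A (A ⧸ Ideal.span {d}) := Module.length_ne_top_iff.1 (ord_ne_top hd)
  show Module.length A (M ⧸ S) ≠ ⊤
  have htor : Module.IsTorsionBySet A (M ⧸ S) (Ideal.span {d} : Set A) := fun x c => by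
    obtain ⟨e, he⟩ := Ideal.mem_span_singleton'.1 c.2
    show (c : A) • x = 0
    rw [← he, mul_smul, hann, smul_zero]
  letI := htor.module
  haveI : IsScalarTower A (A ⧸ Ideal.span {d}) (M ⧸ S) := htor.isScalarTower
  haveI : Module.Finite (A ⧸ Ideal.span {d}) (M ⧸ S) := Module.Finite.of_restrictScalars_finite A _ _
  haveI : IsArtinianRing (A ⧸ Ideal.span {d}) := (LengthDetLib.ord_ne_top_iff d).1 (ord_ne_top hd)
  rw [Module.length_eq_of_surjective (S := A) (R := A ⧸ Ideal.span {d}) Ideal.Quotient.mk_surjective]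
  exact Module.length_ne_top_iff.2 (isFiniteLength_iff_isNoetherian_isArtinian.2 ⟨inferInstance, inferInstance⟩)

/-- The order of a tuple relative to a scalar. -/
def cN {r : ℕ} (a : A) (m : Fin r → M) : ℤ := ((L (A := A) m).toNat : ℤ) - r * ((Ring.ord A a).toNat : ℤ)

include sp in
/-- Two lifts of two bases. -/
theorem cN_compare {r : ℕ} (g : Matrix (Fin r) (Fin r) K) (hg : g.det ≠ 0) {a a' : A} (ha : a ≠ 0) (ha' : a' ≠ 0)
    {m m' : Fin r → M} {e : Fin r → V} (he : LinearIndependent K e) (hspan : Submodule.span K (Set.range e) = ⊤)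
    (hm : ∀ i, sp (m i) = algebraMap A K a • e i)
    (hm' : ∀ j, sp (m' j) = algebraMap A K a' • ∑ i, g i j • e i) :
    cN a' m' = cN a m + CycAlg.ordFrac A K g.det := by
  classical
  obtain ⟨b, hb⟩ := IsLocalization.exist_integer_multiples (nonZeroDivisors A)
    (Finset.univ : Finset (Fin r × Fin r)) (fun p => g p.1 p.2)
  choose G hG using fun i j => hb (i, j) (Finset.mem_univ _)
  let Gm : Matrix (Fin r) (Fin r) A := Matrix.of G
  have hGm : Gm.map (algebraMap A K) = algebraMap A K b • g := by
    ext i j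
    simp [Gm, hG i j, Algebra.smul_def]
  have hdet : algebraMap A K Gm.det = algebraMap A K b ^ r * g.det := by
    rw [RingHom.map_det, RingHom.mapMatrix_apply, hGm, Matrix.det_smul, Fintype.card_fin]
  have hb0 : (b : A) ≠ 0 := nonZeroDivisors.ne_zero b.2
  have hbK : algebraMap A K b ≠ 0 := fun h => hb0 (IsFractionRing.injective A K (h.trans (map_zero _).symm))
  have hGd : Gm.det ≠ 0 := fun h => by
    rw [h, map_zero] at hdet
    exact mul_ne_zero (pow_ne_zero _ hbK) hg hdet.symm
  have hmI : LinearIndependent K (sp ∘ m) := by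
    have haK : algebraMap A K a ≠ 0 := fun h => ha (IsFractionRing.injective A K (h.trans (map_zero _).symm))
    have := he.units_smul (fun _ => Units.mk0 _ haK)
    convert this using 1
    funext i
    exact hm i
  have ha'K : algebraMap A K a' ≠ 0 := fun h => ha' (IsFractionRing.injective A K (h.trans (map_zero _).symm))
  have haK : algebraMap A K a ≠ 0 := fun h => ha (IsFractionRing.injective A K (h.trans (map_zero _).symm))
  let n : Fin r → M := fun j => ∑ i, (a' • Gm) i j • m i
  have hn : ∀ j, sp (n j) = sp (((b : A) * a) • m' j) := fun j => by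
    simp only [n, map_sum, map_smul, hm, hm', Matrix.smul_apply, smul_eq_mul, Finset.smul_sum]
    refine Finset.sum_congr rfl fun i _ => ?_
    rw [← algebraMap_smul K (a' * Gm i j), ← algebraMap_smul K ((b : A) * a), smul_smul, smul_smul, smul_smul,
      map_mul, map_mul, show algebraMap A K (Gm i j) = algebraMap A K b * g i j from by
        simpa [Algebra.smul_def] using congrFun (congrFun hGm i) j]
    congr 1
    ring
  choose s hs using fun j => (IsLocalizedModule.eq_iff_exists (nonZeroDivisors A) sp).1 (hn j)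
  let t : A := ∏ j, (s j : A)
  have ht : t ≠ 0 := Finset.prod_ne_zero_iff.2 fun j _ => nonZeroDivisors.ne_zero (s j).2
  have heq : (fun j => t • n j) = fun j => (t * ((b : A) * a)) • m' j := funext fun j => by
    obtain ⟨e, he⟩ := Finset.dvd_prod_of_mem (fun j => (s j : A)) (Finset.mem_univ j)
    show (∏ j, (s j : A)) • n j = ((∏ j, (s j : A)) * _) • m' j
    have hsj : (s j : A) • n j = (s j : A) • ((b : A) * a) • m' j := hs j
    calc (∏ j, (s j : A)) • n j = e • ((s j : A) • n j) := by rw [he, smul_smul, mul_comm]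
      _ = _ := by
        rw [hsj, smul_smul, smul_smul, he]
        congr 1
        ring
  have hnI : LinearIndependent K (sp ∘ n) ∧ LinearIndependent K (sp ∘ m') := by
    have h1 : LinearIndependent K (fun j => ∑ i, g i j • e i) := by
      rw [Fintype.linearIndependent_iff]
      intro c hc
      simp only [Finset.smul_sum, smul_smul] at hc
      rw [Finset.sum_comm] at hc
      simp only [← Finset.sum_smul] at hc
      have h2 := Fintype.linearIndependent_iff.1 he _ hc
      have h3 : g.mulVec c = 0 := funext fun i => by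
        simpa [Matrix.mulVec, dotProduct, mul_comm] using h2 i
      exact congrFun (Matrix.eq_zero_of_mulVec_eq_zero hg h3)
    have h4 : LinearIndependent K (sp ∘ m') := by
      convert h1.units_smul (fun _ => Units.mk0 _ ha'K) using 1
      funext j
      exact hm' j
    refine ⟨?_, h4⟩
    convert h4.units_smul (fun _ => Units.mk0 _ (mul_ne_zero hbK haK)) using 1
    funext j
    rw [Function.comp_apply, hn, map_smul, ← algebraMap_smul K, map_mul]
    rfl
  have e1 := L_smul sp hnI.1 ht
  have e2 := L_smul sp hnI.2 (mul_ne_zero ht (mul_ne_zero hb0 ha))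
  have e3 := L_matrix sp hmI (a' • Gm) (by simp [Matrix.det_smul, ha', hGd])
  rw [heq, e2] at e1
  rw [show L (A := A) n = L (A := A) m + Ring.ord A (a' • Gm).det from e3, Matrix.det_smul, Fintype.card_fin,
    Ring.ord_mul A (mem_nonZeroDivisors_of_ne_zero hGd), Ring.ord_pow (mem_nonZeroDivisors_of_ne_zero ha'),
    Ring.ord_mul A (mem_nonZeroDivisors_of_ne_zero (mul_ne_zero hb0 ha)), Ring.ord_mul A (mem_nonZeroDivisors_of_ne_zero ha)] at e1
  have hfin : ∀ {q : Fin r → M}, LinearIndependent K (sp ∘ q) → L (A := A) q ≠ ⊤ := fun {q} hq => by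
    refine L_ne_top (K := K) sp ?_
    let B := Basis.mk he hspan.ge
    haveI := Module.Finite.of_basis B
    exact hq.span_eq_top_of_card_eq_finrank' (by rw [Fintype.card_fin, Module.finrank_eq_card_basis B, Fintype.card_fin])
  have f1 := hfin hnI.2
  have f2 := hfin hmI
  have hordG : CycAlg.ordFrac A K g.det = ((Ring.ord A Gm.det).toNat : ℤ) - r * ((Ring.ord A (b : A)).toNat : ℤ) := by
    have h1 : g.det = algebraMap A K Gm.det * (algebraMap A K b ^ r)⁻¹ := by
      rw [hdet]; field_simp
    rw [h1, TameLib.ordFrac_mul (fun h => hGd (IsFractionRing.injective A K (h.trans (map_zero _).symm)))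
      (inv_ne_zero (pow_ne_zero _ hbK)), TameLib.ordFrac_inv (pow_ne_zero _ hbK), TameLib.ordFrac_pow hbK,
      TameLib.ordFrac_algebraMap hGd, TameLib.ordFrac_algebraMap hb0]
    ring
  rw [hordG]
  simp only [cN]
  lift L (A := A) m' to ℕ using f1 with x
  lift L (A := A) m to ℕ using f2 with y
  lift Ring.ord A t to ℕ using ord_ne_top ht with ot
  lift Ring.ord A (b : A) to ℕ using ord_ne_top hb0 with ob
  lift Ring.ord A a to ℕ using ord_ne_top ha with oa
  lift Ring.ord A a' to ℕ using ord_ne_top ha' with oa'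
  lift Ring.ord A Gm.det to ℕ using ord_ne_top hGd with og
  simp only [ENat.toNat_coe]
  simp only [nsmul_eq_mul] at e1
  have e4 : x + r * (ot + (ob + oa)) = y + (r * oa' + og) + r * ot := by exact_mod_cast e1
  push_cast [← @Nat.cast_inj ℤ] at e4
  linear_combination e4

end Model

section Exact

variable {M₁ M₂ M₃ : Type u} [AddCommGroup M₁] [Module A M₁] [AddCommGroup M₂] [Module A M₂] [AddCommGroup M₃] [Module A M₃]
  {V : Type u} [AddCommGroup V] [Module A V] [Module K V] [IsScalarTower A K V] (sp : M₃ →ₗ[A] V)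
  {f : M₁ →ₗ[A] M₂} {g : M₂ →ₗ[A] M₃}

include sp in
/-- Additivity on short exact sequences. -/
theorem L_exact (hf : Function.Injective f) (hfg : Function.Exact f g) (hg : Function.Surjective g) {p q : ℕ}
    {m₁ : Fin p → M₁} {m₃ : Fin q → M₃} (h₃ : LinearIndependent K (sp ∘ m₃)) {n : Fin q → M₂} (hn : ∀ i, g (n i) = m₃ i) :
    L (A := A) (Fin.append (f ∘ m₁) n) = L (A := A) m₁ + L (A := A) m₃ := by
  let S₁ := Submodule.span A (Set.range m₁)
  let S₂ := Submodule.span A (Set.range (Fin.append (f ∘ m₁) n))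
  let S₃ := Submodule.span A (Set.range m₃)
  have hS₂ : S₂ = S₁.map f ⊔ Submodule.span A (Set.range n) := by
    rw [Submodule.map_span, ← Submodule.span_union, ← Set.range_comp]
    refine congrArg (Submodule.span A) ?_
    ext z
    constructor
    · rintro ⟨i, rfl⟩
      induction i using Fin.addCases with
      | left i => exact Or.inl ⟨i, by simp⟩
      | right i => exact Or.inr ⟨i, by simp⟩
    · rintro (⟨i, rfl⟩ | ⟨i, rfl⟩)
      · exact ⟨Fin.castAdd q i, by simp⟩
      · exact ⟨Fin.natAdd p i, by simp⟩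
  have hg₂ : S₂.map g ≤ S₃ := by
    rw [hS₂, Submodule.map_sup, ← Submodule.map_comp, hfg.linearMap_comp_eq_zero, Submodule.map_zero, bot_sup_eq,
      Submodule.map_span, ← Set.range_comp, show g ∘ n = m₃ from funext hn]
  refine Module.length_eq_add_of_exact (Submodule.mapQ S₁ S₂ f (Submodule.map_le_iff_le_comap.1 (by rw [hS₂]; exact le_sup_left)))
    (Submodule.mapQ S₂ S₃ g (Submodule.map_le_iff_le_comap.1 hg₂)) ?_ ?_ ?_
  · refine (injective_iff_map_eq_zero _).2 fun c hc => ?_
    obtain ⟨c, rfl⟩ := Submodule.Quotient.mk_surjective _ c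
    rw [Submodule.mapQ_apply, Submodule.Quotient.mk_eq_zero, hS₂, Submodule.mem_sup] at hc
    obtain ⟨y, ⟨d, hd, rfl⟩, z, hz, hyz⟩ := hc
    obtain ⟨w, rfl⟩ := (Submodule.mem_span_range_iff_exists_fun A).1 hz
    have h1 : Fintype.linearCombination A m₃ w = 0 := by
      have := congrArg g hyz
      simp only [map_add, map_sum, map_smul, hn, hfg.apply_apply_eq_zero, zero_add] at this
      rw [Fintype.linearCombination_apply]
      exact this
    have h2 : w = 0 := indep_lift sp h₃ (h1.trans (map_zero _).symm)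
    rw [Submodule.Quotient.mk_eq_zero]
    have h3 : f d = f c := by simpa [h2] using hyz
    exact hf h3 ▸ hd
  · intro x
    obtain ⟨x, rfl⟩ := Submodule.Quotient.mk_surjective _ x
    obtain ⟨y, rfl⟩ := hg x
    exact ⟨Submodule.Quotient.mk y, rfl⟩
  · intro x
    obtain ⟨x, rfl⟩ := Submodule.Quotient.mk_surjective _ x
    rw [Submodule.mapQ_apply, Submodule.Quotient.mk_eq_zero]
    constructor
    · intro hx
      obtain ⟨w, hw⟩ := (Submodule.mem_span_range_iff_exists_fun A).1 hx
      obtain ⟨c, hc⟩ := (hfg (x - ∑ i, w i • n i)).1 (by simp [map_sum, hn, hw])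
      refine ⟨Submodule.Quotient.mk c, ?_⟩
      rw [Submodule.mapQ_apply, Submodule.Quotient.eq, hc, hS₂]
      refine Submodule.mem_sup_right ?_
      rw [sub_sub_cancel_left]
      exact neg_mem (Submodule.sum_mem _ fun i _ => Submodule.smul_mem _ _ (Submodule.subset_span ⟨i, rfl⟩))
    · rintro ⟨c, hc⟩
      obtain ⟨c, rfl⟩ := Submodule.Quotient.mk_surjective _ c
      rw [Submodule.mapQ_apply, Submodule.Quotient.eq] at hc
      have := hg₂ (Submodule.mem_map_of_mem hc)
      rw [map_sub, hfg.apply_apply_eq_zero, zero_sub] at this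
      exact neg_mem_iff.1 this

end Exact

end K0DivLib

end
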