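import Groth.Agent.K0DivLib.Stalk
import Groth.Agent.KHeartLib.Classes
import Groth.Agent.FibDimLib.ClosureDim

/-!
# The divisor class of a coherent module on a normal scheme
-/

set_option autoImplicit false
set_option linter.style.haveILetI false
set_option backward.isDefEq.respectTransparency false
universe u

open CategoryTheory CategoryTheory.Limits AlgebraicGeometry Module
open DevissLib (St)

noncomputable section

namespace K0DivLib

variable {X : Scheme.{u}} [IsIntegral X] [IsLocallyNoetherian X]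

/-- Points of codimension one. -/
abbrev C1 (X : Scheme.{u}) : Type u := {x : X // ringKrullDim (X.presheaf.stalk x) = 1}

instance krull (x : C1 X) : Ring.KrullDimLE 1 (X.presheaf.stalk x.1) := Ring.krullDimLE_iff.2 x.2.le

/-- The divisor of a rational function. -/
def divHom : Additive (KX X)ˣ →+ (C1 X → ℤ) where
  toFun u x := CycAlg.ordFrac (X.presheaf.stalk x.1) (KX X) (u.toMul : (KX X)ˣ)
  map_zero' := funext fun x => by
    have h := TameLib.ordFrac_mul (R := X.presheaf.stalk x.1) (K := KX X) one_ne_zero one_ne_zero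
    rw [mul_one] at h
    show CycAlg.ordFrac (X.presheaf.stalk x.1) (KX X) 1 = 0
    omega
  map_add' u v := funext fun x => TameLib.ordFrac_mul (u.toMul : (KX X)ˣ).ne_zero (v.toMul : (KX X)ˣ).ne_zero

/-- The class group. -/
abbrev Cl (X : Scheme.{u}) [IsIntegral X] [IsLocallyNoetherian X] : Type u :=
  (C1 X → ℤ) ⧸ (divHom (X := X)).range

variable (F : X.Modules)

/-- A lift of a scaled tuple. -/
def HasLift {r : ℕ} (e : Fin r → Vg F) (x : X) (a : X.presheaf.stalk x) (m : Fin r → F.presheaf.stalk x) : Prop :=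
  a ≠ 0 ∧ ∀ i, sp F x (m i) = algebraMap (X.presheaf.stalk x) (KX X) a • e i

theorem exists_lift [Coh.IsQCoh F] {r : ℕ} (e : Fin r → Vg F) (x : X) :
    ∃ a m, HasLift F e x a m := by
  classical
  haveI := isLocalized F x
  choose p hp using fun i => IsLocalizedModule.surj (nonZeroDivisors (X.presheaf.stalk x)) (sp F x) (e i)
  refine ⟨∏ i, ((p i).2 : X.presheaf.stalk x),
    fun i => (∏ j ∈ Finset.univ.erase i, ((p j).2 : X.presheaf.stalk x)) • (p i).1,
    Finset.prod_ne_zero_iff.2 fun i _ => nonZeroDivisors.ne_zero (p i).2.2, fun i => ?_⟩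
  rw [map_smul, ← hp i, Submonoid.smul_def, smul_smul, algebraMap_smul,
    Finset.prod_erase_mul _ _ (Finset.mem_univ i)]

variable [Coh.IsQCoh F]

/-- The order at a point of a tuple of rational sections. -/
def cx {r : ℕ} (e : Fin r → Vg F) (x : C1 X) : ℤ :=
  cN (exists_lift F e x.1).choose (exists_lift F e x.1).choose_spec.choose

theorem finite_Vg (hF : CohB1.IsFT F) : Module.Finite (KX X) (Vg F) := DepthLib.finite_stalk F hF _

variable (hF : CohB1.IsFT F)

include hF in
theorem cN_change {r : ℕ} {e e' : Fin r → Vg F} (he : LinearIndependent (KX X) e)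
    (hs : Submodule.span (KX X) (Set.range e) = ⊤) (g : Matrix (Fin r) (Fin r) (KX X)) (hg : g.det ≠ 0)
    (hge : ∀ j, e' j = ∑ i, g i j • e i) (x : C1 X) {a a' : X.presheaf.stalk x.1}
    {m m' : Fin r → F.presheaf.stalk x.1} (hm : HasLift F e x.1 a m) (hm' : HasLift F e' x.1 a' m') :
    cN a' m' = cN a m + CycAlg.ordFrac (X.presheaf.stalk x.1) (KX X) g.det := by
  haveI := isLocalized F x.1
  haveI : Module.Finite (X.presheaf.stalk x.1) (F.presheaf.stalk x.1) := DepthLib.finite_stalk F hF _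
  exact cN_compare (sp F x.1) g hg hm.1 hm'.1 he hs hm.2 fun j => by rw [hm'.2, hge]

include hF in
theorem cx_eq {r : ℕ} {e : Fin r → Vg F} (he : LinearIndependent (KX X) e)
    (hs : Submodule.span (KX X) (Set.range e) = ⊤) (x : C1 X) {a : X.presheaf.stalk x.1}
    {m : Fin r → F.presheaf.stalk x.1} (hm : HasLift F e x.1 a m) : cx F e x = cN a m := by
  have h := cN_change F hF he hs 1 (by simp) (e' := e) (fun j => by simp [Matrix.one_apply]) x hm
    (exists_lift F e x.1).choose_spec.choose_spec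
  have h0 : CycAlg.ordFrac (X.presheaf.stalk x.1) (KX X) (1 : KX X) = 0 := by
    have h := TameLib.ordFrac_mul (R := X.presheaf.stalk x.1) (K := KX X) one_ne_zero one_ne_zero
    rw [mul_one] at h
    omega
  rw [Matrix.det_one, h0, add_zero] at h
  exact h

/-- The class of a tuple. -/
def cls {r : ℕ} (e : Fin r → Vg F) : Cl X := QuotientAddGroup.mk (cx F e)

include hF in
theorem cls_change {r : ℕ} {e e' : Fin r → Vg F} (he : LinearIndependent (KX X) e)
    (hs : Submodule.span (KX X) (Set.range e) = ⊤) (he' : LinearIndependent (KX X) e')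
    (hs' : Submodule.span (KX X) (Set.range e') = ⊤) : cls F e = cls F e' := by
  classical
  let B := Basis.mk he hs.ge
  let B' := Basis.mk he' hs'.ge
  let g := B.toMatrix B'
  have hg : g.det ≠ 0 := by
    rw [show g.det = B.det B' from (B.det_apply _).symm]
    exact (B.isUnit_det B').ne_zero
  have hge : ∀ j, e' j = ∑ i, g i j • e i := fun j => by
    have h := B.sum_toMatrix_smul_self (fun i => B' i) j
    simp only [B, B', Basis.mk_apply] at h ⊢
    simpa [g, B, B'] using h.symm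
  refine (QuotientAddGroup.eq).2 ⟨Additive.ofMul (Units.mk0 _ hg), ?_⟩
  funext x
  show CycAlg.ordFrac _ _ g.det = -cx F e x + cx F e' x
  rw [cx_eq F hF he' hs' x (exists_lift F e' x.1).choose_spec.choose_spec,
    cN_change F hF he hs g hg hge x (exists_lift F e x.1).choose_spec.choose_spec
      (exists_lift F e' x.1).choose_spec.choose_spec]
  simp only [cx]
  abel

omit [Coh.IsQCoh F] in
open Classical in
/-- The divisor class of a module. -/
def Φ : Cl X :=
  if h : Coh.IsCoh F then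
    haveI := h.1
    cls F (fun i => (@Module.finBasis (KX X) (Vg F) _ _ _ _ _ (finite_Vg F h.2)) i)
  else 0

theorem Φ_eq (h : Coh.IsCoh F) {r : ℕ} {e : Fin r → Vg F} (he : LinearIndependent (KX X) e)
    (hs : Submodule.span (KX X) (Set.range e) = ⊤) : Φ F = cls F e := by
  haveI := finite_Vg F h.2
  have hr : r = Module.finrank (KX X) (Vg F) :=
    ((Module.finrank_eq_card_basis (Basis.mk he hs.ge)).trans (Fintype.card_fin r)).symm
  subst hr
  rw [Φ, dif_pos h]
  exact cls_change F h.2 (Module.finBasis (KX X) (Vg F)).linearIndependent (Module.finBasis (KX X) (Vg F)).span_eq he hs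

omit [Coh.IsQCoh F] in
/-- Additivity. -/
theorem Φ_add (S : ShortComplex X.Modules) (hS : S.ShortExact) (h₁ : Coh.IsCoh S.X₁) (h₂ : Coh.IsCoh S.X₂)
    (h₃ : Coh.IsCoh S.X₃) : Φ S.X₂ = Φ S.X₁ + Φ S.X₃ := by
  classical
  haveI := h₁.1
  haveI := h₂.1
  haveI := h₃.1
  have hE := fun x => hS.map_of_exact (St (X := X) x)
  let fη : Vg S.X₁ →ₗ[KX X] Vg S.X₂ := ((St (η : X)).map S.f).hom
  let gη : Vg S.X₂ →ₗ[KX X] Vg S.X₃ := ((St (η : X)).map S.g).hom
  have hfi : Function.Injective fη := (hE η).moduleCat_injective_f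
  have hgs : Function.Surjective gη := (hE η).moduleCat_surjective_g
  have hfg : Function.Exact fη gη := (ShortComplex.ShortExact.moduleCat_exact_iff_function_exact _).1 (hE η).exact
  haveI := finite_Vg S.X₁ h₁.2
  haveI := finite_Vg S.X₃ h₃.2
  obtain ⟨p, e₁, he₁, hs₁⟩ : ∃ (p : ℕ) (e : Fin p → Vg S.X₁), LinearIndependent (KX X) e ∧
      Submodule.span (KX X) (Set.range e) = ⊤ :=
    ⟨_, _, (Module.finBasis (KX X) (Vg S.X₁)).linearIndependent, (Module.finBasis (KX X) (Vg S.X₁)).span_eq⟩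
  obtain ⟨q, e₃, he₃, hs₃⟩ : ∃ (q : ℕ) (e : Fin q → Vg S.X₃), LinearIndependent (KX X) e ∧
      Submodule.span (KX X) (Set.range e) = ⊤ :=
    ⟨_, _, (Module.finBasis (KX X) (Vg S.X₃)).linearIndependent, (Module.finBasis (KX X) (Vg S.X₃)).span_eq⟩
  choose h hh using fun i => hgs (e₃ i)
  let e₂ : Fin (p + q) → Vg S.X₂ := Fin.append (fun i => fη (e₁ i)) h
  have hsum : ∀ c : Fin (p + q) → KX X, ∑ j, c j • e₂ j =
      fη (∑ i, c (Fin.castAdd q i) • e₁ i) + ∑ i, c (Fin.natAdd p i) • h i := fun c => by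
    rw [Fin.sum_univ_add, map_sum]
    simp [e₂, map_smul]
  have he₂ : LinearIndependent (KX X) e₂ := Fintype.linearIndependent_iff.2 fun c hc => by
    rw [hsum] at hc
    have h1 : ∑ i, c (Fin.natAdd p i) • e₃ i = 0 := by
      have := congrArg gη hc
      simpa [map_add, map_sum, map_smul, hh, hfg.apply_apply_eq_zero] using this
    have h2 := Fintype.linearIndependent_iff.1 he₃ _ h1
    have h3 : fη (∑ i, c (Fin.castAdd q i) • e₁ i) = 0 := by simpa [h2] using hc
    have h4 := Fintype.linearIndependent_iff.1 he₁ _ (hfi (h3.trans (map_zero _).symm))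
    intro j
    induction j using Fin.addCases with
    | left i => exact h4 i
    | right i => exact h2 i
  have hs₂ : Submodule.span (KX X) (Set.range e₂) = ⊤ := eq_top_iff.2 fun v _ => by
    obtain ⟨c₃, hc₃⟩ := (Submodule.mem_span_range_iff_exists_fun (KX X)).1 (hs₃.ge (Submodule.mem_top (x := gη v)))
    obtain ⟨w, hw⟩ := (hfg (v - ∑ i, c₃ i • h i)).1 (by simp [map_sub, map_sum, map_smul, hh, hc₃])
    obtain ⟨c₁, rfl⟩ := (Submodule.mem_span_range_iff_exists_fun (KX X)).1 (hs₁.ge (Submodule.mem_top (x := w)))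
    exact (Submodule.mem_span_range_iff_exists_fun (KX X)).2 ⟨Fin.append c₁ c₃, by
      rw [hsum]; simp [hw]⟩
  rw [Φ_eq S.X₁ h₁ he₁ hs₁, Φ_eq S.X₃ h₃ he₃ hs₃, Φ_eq S.X₂ h₂ he₂ hs₂, cls, cls, cls, ← QuotientAddGroup.mk_add]
  congr 1
  funext x
  let fx := ((St x.1).map S.f).hom
  let gx := ((St x.1).map S.g).hom
  have xfi : Function.Injective fx := (hE x.1).moduleCat_injective_f
  have xgs : Function.Surjective gx := (hE x.1).moduleCat_surjective_g
  have xfg : Function.Exact fx gx := (ShortComplex.ShortExact.moduleCat_exact_iff_function_exact _).1 (hE x.1).exact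
  obtain ⟨a₁, m₁, hm₁⟩ := exists_lift S.X₁ e₁ x.1
  obtain ⟨a₃, m₃, hm₃⟩ := exists_lift S.X₃ e₃ x.1
  let a := a₁ * a₃
  have ha : a ≠ 0 := mul_ne_zero hm₁.1 hm₃.1
  let κ := algebraMap (X.presheaf.stalk x.1) (KX X) a
  have hκ : κ ≠ 0 := fun h0 => ha (IsFractionRing.injective _ (KX X) (h0.trans (map_zero _).symm))
  have hl₁ : HasLift S.X₁ e₁ x.1 a (fun i => a₃ • m₁ i) := ⟨ha, fun i => by
    rw [map_smul, hm₁.2, ← algebraMap_smul (KX X) a₃, smul_smul, ← map_mul, mul_comm]⟩
  have hl₃ : HasLift S.X₃ e₃ x.1 a (fun i => a₁ • m₃ i) := ⟨ha, fun i => by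
    rw [map_smul, hm₃.2, ← algebraMap_smul (KX X) a₁, smul_smul, ← map_mul]⟩
  choose n hn using fun i => xgs (a₁ • m₃ i)
  have hv : ∀ i, ∃ c : Fin p → KX X, sp S.X₂ x.1 (n i) = κ • h i + fη (∑ l, c l • e₁ l) := fun i => by
    obtain ⟨v, hv⟩ := (hfg (sp S.X₂ x.1 (n i) - κ • h i)).1 (by
      rw [map_sub, map_smul, hh]
      show gη (sp S.X₂ x.1 (n i)) - _ = 0
      have e1 : gη (sp S.X₂ x.1 (n i)) = sp S.X₃ x.1 (gx (n i)) := (sp_natural S.g x.1 (n i)).symm
      rw [e1, hn, hl₃.2, sub_self])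
    obtain ⟨c, rfl⟩ := (Submodule.mem_span_range_iff_exists_fun (KX X)).1 (hs₁.ge (Submodule.mem_top (x := v)))
    exact ⟨c, by rw [hv]; abel⟩
  choose c hc using hv
  let W : Matrix (Fin p) (Fin q) (KX X) := Matrix.of fun l i => κ⁻¹ * c i l
  let g : Matrix (Fin (p + q)) (Fin (p + q)) (KX X) :=
    Matrix.reindex finSumFinEquiv finSumFinEquiv (Matrix.fromBlocks 1 W 0 1)
  let e₂' : Fin (p + q) → Vg S.X₂ := fun j => ∑ i, g i j • e₂ i
  have hdet : g.det = 1 := by
    simp only [g, Matrix.det_reindex_self, Matrix.det_fromBlocks_zero₂₁, Matrix.det_one, mul_one]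
  have hl₂ : HasLift S.X₂ e₂' x.1 a (Fin.append (fun i => fx (a₃ • m₁ i)) n) := ⟨ha, fun j => by
    induction j using Fin.addCases with
    | left i =>
      rw [Fin.append_left, sp_natural S.f x.1, show ((St (η : X)).map S.f).hom = fη from rfl, hl₁.2, map_smul]
      congr 1
      simp [e₂', g, e₂, Fin.sum_univ_add, Matrix.one_apply]
      rfl
    | right i =>
      rw [Fin.append_right, hc]
      simp only [e₂', g, e₂, Fin.sum_univ_add, Matrix.reindex_apply, Matrix.submatrix_apply,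
        finSumFinEquiv_symm_apply_castAdd, finSumFinEquiv_symm_apply_natAdd, Matrix.fromBlocks_apply₁₂,
        Matrix.fromBlocks_apply₂₂, Fin.append_left, Fin.append_right, Matrix.one_apply, ite_smul, one_smul,
        zero_smul, Finset.sum_ite_eq', Finset.mem_univ, if_true, W, Matrix.of_apply]
      rw [smul_add, Finset.smul_sum, map_sum, add_comm]
      congr 1
      refine Finset.sum_congr rfl fun l _ => ?_
      rw [map_smul, smul_smul, ← mul_assoc, mul_inv_cancel₀ hκ, one_mul]⟩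
  have hchange := cN_change S.X₂ h₂.2 he₂ hs₂ g (by rw [hdet]; exact one_ne_zero) (fun j => rfl) x
    (exists_lift S.X₂ e₂ x.1).choose_spec.choose_spec hl₂
  have h0 : CycAlg.ordFrac (X.presheaf.stalk x.1) (KX X) (1 : KX X) = 0 := by
    have h := TameLib.ordFrac_mul (R := X.presheaf.stalk x.1) (K := KX X) one_ne_zero one_ne_zero
    rw [mul_one] at h
    omega
  rw [hdet, h0, add_zero] at hchange
  show cx S.X₂ e₂ x = cx S.X₁ e₁ x + cx S.X₃ e₃ x
  rw [cx_eq S.X₁ h₁.2 he₁ hs₁ x hl₁, cx_eq S.X₃ h₃.2 he₃ hs₃ x hl₃, cx, ← hchange]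
  haveI := isLocalized S.X₁ x.1
  haveI := isLocalized S.X₃ x.1
  haveI : Module.Finite (X.presheaf.stalk x.1) (S.X₁.presheaf.stalk x.1) := DepthLib.finite_stalk _ h₁.2 _
  haveI : Module.Finite (X.presheaf.stalk x.1) (S.X₃.presheaf.stalk x.1) := DepthLib.finite_stalk _ h₃.2 _
  have hspan : ∀ {r : ℕ} {G : X.Modules} {e : Fin r → Vg G} {m : Fin r → G.presheaf.stalk x.1},
      Submodule.span (KX X) (Set.range e) = ⊤ → (∀ i, sp G x.1 (m i) = κ • e i) →
      Submodule.span (KX X) (Set.range (sp G x.1 ∘ m)) = ⊤ := fun {r G e m} hs hm => by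
    refine eq_top_iff.2 (hs ▸ Submodule.span_le.2 ?_)
    rintro _ ⟨i, rfl⟩
    rw [show e i = κ⁻¹ • (sp G x.1 ∘ m) i by rw [Function.comp_apply, hm, smul_smul, inv_mul_cancel₀ hκ, one_smul]]
    exact Submodule.smul_mem _ _ (Submodule.subset_span ⟨i, rfl⟩)
  have hI₃ : LinearIndependent (KX X) (sp S.X₃ x.1 ∘ fun i => a₁ • m₃ i) := by
    convert he₃.units_smul (fun _ => Units.mk0 _ hκ) using 1
    funext i
    exact hl₃.2 i
  simp only [cN]
  rw [show (Fin.append (fun i => fx (a₃ • m₁ i)) n) = Fin.append (fx ∘ fun i => a₃ • m₁ i) n from rfl,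
    L_exact (sp S.X₃ x.1) xfi xfg xgs hI₃ hn,
    ENat.toNat_add (L_ne_top (sp S.X₁ x.1) (hspan hs₁ hl₁.2)) (L_ne_top (sp S.X₃ x.1) (hspan hs₃ hl₃.2))]
  push_cast
  ring

omit [Coh.IsQCoh F] in
/-- The value on a module vanishing generically. -/
theorem Φ_torsion (h : Coh.IsCoh F) (h0 : Subsingleton (Vg F)) :
    Φ F = QuotientAddGroup.mk fun x : C1 X =>
      ((Module.length (X.presheaf.stalk x.1) (F.presheaf.stalk x.1)).toNat : ℤ) := by
  haveI := h.1
  rw [Φ_eq F h (r := 0) (e := fun i => i.elim0) linearIndependent_empty_type (Subsingleton.elim _ _), cls]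
  congr 1
  funext x
  simp only [cx, cN, L, Nat.cast_zero, zero_mul, sub_zero]
  congr 2
  rw [Set.range_eq_empty, Submodule.span_empty]
  exact (Submodule.quotEquivOfEqBot ⊥ rfl).length_eq

theorem exists_lift_Kcoh : ∃ T : SGA6.Kcoh X →+ Cl X, ∀ G : X.Modules, Coh.IsCoh G → T (CohGenLib.cl G) = Φ G := by
  obtain ⟨r, hr⟩ := Groth.Agent.KHeartLib.exists_lift_sub (fun M : X.Modules => Coh.IsCoh M) Φ
    (fun S hS h₁ h₂ h₃ => Φ_add S hS h₁ h₂ h₃)
  exact ⟨r, hr⟩

end K0DivLib

end
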