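import Groth.Agent.K0DivLib.Lattice
import Groth.Agent.DiagTorLib.Serre
import Groth.Agent.DivIntLib.Basic
import Groth.Agent.CohGenLib.Basic
import Groth.Agent.DepthLib.RegAB
import Groth.Agent.CycK0Lib.Scale

/-!
# Generic and codimension one stalks on an integral scheme
-/

set_option autoImplicit false
set_option linter.style.haveILetI false
set_option backward.isDefEq.respectTransparency false
universe u

open CategoryTheory CategoryTheory.Limits AlgebraicGeometry Module
open DevissLib (St)

noncomputable section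

namespace K0DivLib

variable {X : Scheme.{u}} [IsIntegral X]

/-- The generic point. -/
abbrev η : X := genericPoint X

theorem spec_gen (x : X) : (η : X) ⤳ x := (genericPoint_spec X).specializes trivial

/-- The function field. -/
abbrev KX (X : Scheme.{u}) [IsIntegral X] : Type u := X.functionField

instance (priority := 50) algKX (x : X) : Algebra (X.presheaf.stalk x) (KX X) :=
  (X.presheaf.stalkSpecializes (spec_gen x)).hom.toAlgebra

theorem primeOf_gen (x : X) : (CycDivLib.primeOf (spec_gen x)).asIdeal = ⊥ := by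
  refine eq_bot_iff.2 fun a ha => ?_
  by_contra h0
  exact DivIntLib.specMap_gen_ne_zero (spec_gen x) h0 ((CycDivLib.specMap_eq_zero_iff _ a).2 ha)

theorem primeCompl_gen (x : X) : (CycDivLib.primeOf (spec_gen x)).asIdeal.primeCompl = nonZeroDivisors (X.presheaf.stalk x) := by
  ext a
  show a ∉ (CycDivLib.primeOf (spec_gen x)).asIdeal ↔ _
  rw [primeOf_gen, Ideal.mem_bot, mem_nonZeroDivisors_iff_ne_zero]

instance fracKX (x : X) : IsFractionRing (X.presheaf.stalk x) (KX X) := by
  show IsLocalization (nonZeroDivisors (X.presheaf.stalk x)) _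
  rw [← primeCompl_gen x]
  exact CycDivLib.isLocalization_stalkSpecializes (spec_gen x)

/-- The generic stalk. -/
abbrev Vg (F : X.Modules) : Type u := F.presheaf.stalk (η : X)

instance (priority := 50) modVg (F : X.Modules) (x : X) : Module (X.presheaf.stalk x) (Vg F) :=
  Module.compHom _ (X.presheaf.stalkSpecializes (spec_gen x)).hom

instance towerVg (F : X.Modules) (x : X) : IsScalarTower (X.presheaf.stalk x) (KX X) (Vg F) :=
  IsScalarTower.of_algebraMap_smul fun _ _ => rfl

/-- Restriction to the generic stalk. -/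
def sp (F : X.Modules) (x : X) : F.presheaf.stalk x →ₗ[X.presheaf.stalk x] Vg F where
  toFun v := F.presheaf.stalkSpecializes (spec_gen x) v
  map_add' a b := map_add (F.presheaf.stalkSpecializes (spec_gen x)).hom a b
  map_smul' a v := CycC1Lib.stalkSpecializes_smul F (spec_gen x) a v

theorem isLocalized (F : X.Modules) [Coh.IsQCoh F] (x : X) :
    IsLocalizedModule (nonZeroDivisors (X.presheaf.stalk x)) (sp F x) := by
  rw [← primeCompl_gen x]
  let h := spec_gen x
  obtain ⟨U, hU, hxU, -⟩ := exists_isAffineOpen_mem_and_subset (X := X) (x := x) (U := ⊤) trivial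
  have hξU : (η : X) ∈ U := h.mem_open U.isOpen hxU
  have hgξ : ∀ r : Γ(X, U), (X.presheaf.stalkSpecializes h).hom ((X.presheaf.germ U x hxU).hom r) =
      (X.presheaf.germ U η hξU).hom r := fun r => TopCat.Presheaf.germ_stalkSpecializes_apply X.presheaf hxU h r
  have hmem : ∀ r : Γ(X, U), (X.presheaf.germ U x hxU).hom r ∈ (CycDivLib.primeOf h).asIdeal.primeCompl ↔
      r ∈ (hU.primeIdealOf ⟨η, hξU⟩).asIdeal.primeCompl := fun r => by
    show ¬ ((X.presheaf.stalkSpecializes h).hom ((X.presheaf.germ U x hxU).hom r) ∈ IsLocalRing.maximalIdeal _) ↔ _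
    rw [hgξ, IsLocalRing.mem_maximalIdeal]
    exact not_congr (SDivLib.mem_prm_iff (⟨U, hU⟩ : X.affineOpens) hξU r).symm
  refine ⟨fun s => ?_, fun σ => ?_, fun {a b} hab => ?_⟩
  · rw [Module.End.isUnit_iff]
    have hs : algebraMap (X.presheaf.stalk x) (KX X) (s : X.presheaf.stalk x) ≠ 0 := fun h0 => by
      have h1 := IsFractionRing.injective (X.presheaf.stalk x) (KX X) (h0.trans (map_zero _).symm)
      exact s.2 (h1 ▸ Ideal.zero_mem _)
    refine ⟨fun a b hab => ?_, fun a => ⟨(algebraMap (X.presheaf.stalk x) (KX X) (s : X.presheaf.stalk x))⁻¹ • a, ?_⟩⟩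
    · exact smul_right_injective _ hs hab
    · refine ((Module.algebraMap_end_apply (S := X.presheaf.stalk x) (R := X.presheaf.stalk x) (M := Vg F) _ _)).trans
        ((smul_assoc _ _ _).symm.trans ?_)
      rw [Algebra.smul_def, mul_inv_cancel₀ hs, one_smul]
  · letI := Module.compHom (Vg F) (X.presheaf.germ U η hξU).hom
    haveI := FlatLib.isLocalizedModule_germLin F hU hξU
    obtain ⟨⟨m, s⟩, hs⟩ := IsLocalizedModule.surj (hU.primeIdealOf ⟨η, hξU⟩).asIdeal.primeCompl (FlatLib.germLin F hξU) σ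
    refine ⟨(F.presheaf.germ U x hxU m, ⟨(X.presheaf.germ U x hxU).hom s.1, (hmem _).2 s.2⟩), ?_⟩
    show (X.presheaf.stalkSpecializes h).hom ((X.presheaf.germ U x hxU).hom s.1) • σ =
      F.presheaf.stalkSpecializes h (F.presheaf.germ U x hxU m)
    rw [hgξ, TopCat.Presheaf.germ_stalkSpecializes_apply]
    exact hs
  · letI := Module.compHom (F.presheaf.stalk x) (X.presheaf.germ U x hxU).hom
    haveI := FlatLib.isLocalizedModule_germLin F hU hxU
    obtain ⟨⟨m, s⟩, hs⟩ := IsLocalizedModule.surj (hU.primeIdealOf ⟨x, hxU⟩).asIdeal.primeCompl (FlatLib.germLin F hxU) (a - b)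
    replace hs : (X.presheaf.germ U x hxU).hom s.1 • (a - b) = F.presheaf.germ U x hxU m := hs
    have h0 : F.presheaf.germ U η hξU m = 0 := by
      rw [← TopCat.Presheaf.germ_stalkSpecializes_apply F.presheaf hxU h, ← hs]
      show sp F x ((X.presheaf.germ U x hxU).hom s.1 • (a - b)) = 0
      rw [map_smul, map_sub, hab, sub_self, smul_zero]
    letI := Module.compHom (Vg F) (X.presheaf.germ U η hξU).hom
    haveI := FlatLib.isLocalizedModule_germLin F hU hξU
    obtain ⟨t, ht⟩ := (IsLocalizedModule.eq_zero_iff (hU.primeIdealOf ⟨η, hξU⟩).asIdeal.primeCompl (FlatLib.germLin F hξU)).1 h0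
    letI := X.presheaf.algebra_section_stalk (⟨x, hxU⟩ : U)
    haveI : IsLocalization.AtPrime (X.presheaf.stalk x) (hU.primeIdealOf ⟨x, hxU⟩).asIdeal :=
      hU.isLocalization_stalk ⟨x, hxU⟩
    obtain ⟨v, hv⟩ := IsLocalization.map_units (X.presheaf.stalk x) s
    refine ⟨⟨(X.presheaf.germ U x hxU).hom t.1, (hmem _).2 t.2⟩, ?_⟩
    show (X.presheaf.germ U x hxU).hom t.1 • a = (X.presheaf.germ U x hxU).hom t.1 • b
    rw [← sub_eq_zero, ← smul_sub]
    have h1 : (X.presheaf.germ U x hxU).hom t.1 • (X.presheaf.germ U x hxU).hom s.1 • (a - b) = 0 := by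
      rw [hs, ← FlatLib.germ_smul_mod F hxU]
      show F.presheaf.germ U x hxU ((t : Γ(X, U)) • m) = 0
      have ht' : (t : Γ(X, U)) • m = 0 := ht
      rw [ht', map_zero]
    rw [smul_comm] at h1
    have hu : IsUnit ((X.presheaf.germ U x hxU).hom s.1) := ⟨v, hv⟩
    exact hu.smul_eq_zero.1 h1

theorem sp_natural {F G : X.Modules} (f : F ⟶ G) (x : X) (m : F.presheaf.stalk x) :
    sp G x (((St x).map f).hom m) = ((St (η : X)).map f).hom (sp F x m) := by
  obtain ⟨U, hx, s, rfl⟩ := TopCat.Presheaf.exists_germ_eq F.presheaf (x := x) m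
  show G.presheaf.stalkSpecializes (spec_gen x) _ = _
  have e1 : ((St x).map f).hom (F.presheaf.germ U x hx s) = G.presheaf.germ U x hx (f.app U s) :=
    DerSch.stalkFunctor_map_germ x f U hx s
  rw [e1, TopCat.Presheaf.germ_stalkSpecializes_apply]
  refine Eq.trans ?_ (congrArg ((St (η : X)).map f).hom
    (TopCat.Presheaf.germ_stalkSpecializes_apply F.presheaf (U := U) hx (spec_gen x) s).symm)
  exact (DerSch.stalkFunctor_map_germ (η : X) f U ((spec_gen x).mem_open U.isOpen hx) s).symm

/-- The order of a rational function. -/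
theorem ordAt_eq [IsLocallyNoetherian X] {x : X} (hd : ringKrullDim (X.presheaf.stalk x) ≤ 1) {z : KX X} (hz : z ≠ 0) :
    Cyc.ordAt x (η : X) (spec_gen x) (X.residue _ z) = CycAlg.ordFrac (X.presheaf.stalk x) (KX X) z := by
  haveI : Ring.KrullDimLE 1 (X.presheaf.stalk x) := Ring.krullDimLE_iff.2 hd
  have hdb : EquidimLib.dimBetween (η : X) x ≤ 1 := by
    rw [← CycDivLib.dim_quotient (spec_gen x)]
    exact (ringKrullDim_quotient_le _).trans hd
  obtain ⟨a, b, hb, rfl⟩ := IsFractionRing.div_surjective (A := X.presheaf.stalk x) z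
  have hb0 : b ≠ 0 := nonZeroDivisors.ne_zero hb
  have ha0 : a ≠ 0 := fun h => hz (by rw [h, map_zero, zero_div])
  have hinj := IsFractionRing.injective (X.presheaf.stalk x) (KX X)
  have hbK : algebraMap (X.presheaf.stalk x) (KX X) b ≠ 0 := fun h => hb0 (hinj (h.trans (map_zero _).symm))
  have haK : algebraMap (X.presheaf.stalk x) (KX X) a ≠ 0 := fun h => ha0 (hinj (h.trans (map_zero _).symm))
  have hord : ∀ c : X.presheaf.stalk x, c ≠ 0 → Cyc.ordAt x (η : X) (spec_gen x) (Cyc.specMap x η (spec_gen x) c) =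
      ((Ring.ord (X.presheaf.stalk x) c).toNat : ℤ) := fun c hc => by
    rw [CycDivLib.ordAt_specMap _ hdb (DivIntLib.specMap_gen_ne_zero _ hc), primeOf_gen, bot_sup_eq]
    rfl
  have hres : X.residue _ (algebraMap (X.presheaf.stalk x) (KX X) a / algebraMap (X.presheaf.stalk x) (KX X) b) =
      Cyc.specMap x η (spec_gen x) a / Cyc.specMap x η (spec_gen x) b := by
    rw [eq_div_iff (DivIntLib.specMap_gen_ne_zero _ hb0)]
    show X.residue _ _ * X.residue _ (algebraMap (X.presheaf.stalk x) (KX X) b) = X.residue _ (algebraMap (X.presheaf.stalk x) (KX X) a)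
    rw [← map_mul, div_mul_cancel₀ _ hbK]
  rw [hres, CycDivLib.ordAt_div _ hdb (DivIntLib.specMap_gen_ne_zero _ ha0) (DivIntLib.specMap_gen_ne_zero _ hb0),
    hord a ha0, hord b hb0, div_eq_mul_inv, TameLib.ordFrac_mul haK (inv_ne_zero hbK), TameLib.ordFrac_inv hbK,
    TameLib.ordFrac_algebraMap ha0, TameLib.ordFrac_algebraMap hb0]
  ring

end K0DivLib

end
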